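import Cfsg.Agent.H702.BR.PairRow
import Cfsg.Agent.H823.B0R.Inst
import Cfsg.Agent.H839.ElevenMain
import Cfsg.Agent.H839.SeventeenMain
import Cfsg.Agent.Fischer.Fi23Simple

/-!
# B0-RAT: `Fi23`, `p = 7, 11, 13, 17` (helper702)

Pairs `(7, 17)` and `(11, 13)` of the engine: no elements of order `119` (`C(17) = 17`) and `143` (`|N(11)| = 440`).
-/

set_option autoImplicit false
set_option maxRecDepth 10000

open Subgroup

namespace Cfsg.Agent.H702.BR.FiTT

open Cfsg Cfsg.Agent.H145.BR Cfsg.Agent.H602.B0R Cfsg.Agent.H493.RatB Cfsg.Agent.H839 Cfsg.Agent.H839.Fi23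
open Cfsg.Spor (Fi23)

universe u

theorem card_eq : Nat.card Fi23 = 2 ^ 18 * 3 ^ 13 * 5 ^ 2 * 7 * 11 * 13 * 17 * 23 := by
  rw [Fischer.Fi23Simple.card_Fi23]; norm_num

theorem finite : Finite Fi23 := Nat.finite_of_card_ne_zero (by rw [card_eq]; norm_num)

theorem not_119 (g : Fi23) : orderOf g ≠ 7 * 17 := by
  intro hg
  have h1 : orderOf (g ^ 7) = 17 := by
    rw [orderOf_pow' g (by norm_num), hg]; norm_num
  obtain ⟨-, h2⟩ := seventeen_main (zpowers (g ^ 7)) (by rw [Nat.card_zpowers, h1])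
  have h3 : g ∈ centralizer ((zpowers (g ^ 7) : Subgroup Fi23) : Set Fi23) := by
    rw [mem_centralizer_iff]
    rintro x ⟨k, rfl⟩
    exact ((Commute.refl g).pow_left 7).zpow_left k
  rw [h2] at h3
  have h4 := orderOf_dvd_of_mem_zpowers h3
  rw [hg, h1] at h4
  norm_num at h4

theorem not_143 (g : Fi23) : orderOf g ≠ 11 * 13 := by
  have := finite
  intro hg
  have h1 : orderOf (g ^ 13) = 11 := by
    rw [orderOf_pow' g (by norm_num), hg]; norm_num
  obtain ⟨c, hc⟩ := conj_all11 X11 (zpowers (g ^ 13)) card_X11 (by rw [Nat.card_zpowers, h1])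
  have h2 : Nat.card (normalizer ((zpowers (g ^ 13) : Subgroup Fi23) : Set Fi23)) = 440 := by
    rw [← hc, ← card_N11, ← Cfsg.Agent.H838.Transport.map_normalizer (MulAut.conj c) X11]
    exact (Nat.card_congr ((MulAut.conj c).subgroupMap _).toEquiv).symm
  have h3 : g ∈ normalizer ((zpowers (g ^ 13) : Subgroup Fi23) : Set Fi23) := by
    apply centralizer_le_normalizer
    rw [mem_centralizer_iff]
    rintro x ⟨k, rfl⟩
    exact ((Commute.refl g).pow_left 13).zpow_left k
  have h4 := Subgroup.orderOf_dvd_natCard _ h3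
  rw [hg, h2] at h4
  norm_num at h4

theorem wit_7_17 (hf : FrobAll Fi23) : WitZ 7 Fi23 ∧ WitZ 17 Fi23 := by
  have := finite
  have : Fact (Nat.Prime 7) := ⟨by norm_num⟩
  have : Fact (Nat.Prime 17) := ⟨by norm_num⟩
  refine witZ_pair (L := []) (by norm_num) (by norm_num) (by norm_num) (by rw [card_eq]; norm_num) (by rw [card_eq]; norm_num)
    (by rw [card_eq]; norm_num) (by rw [card_eq]; norm_num)
    (fun P h => root_cond (by decide) (by norm_num) h) (fun P h => root_cond (by decide) (by norm_num) h) not_119 hf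
    (by simp) ?_
  rw [card_eq]
  exact H823.B0R.Fi23_7_17

theorem wit_11_13 (hf : FrobAll Fi23) : WitZ 11 Fi23 ∧ WitZ 13 Fi23 := by
  have := finite
  have : Fact (Nat.Prime 11) := ⟨by norm_num⟩
  have : Fact (Nat.Prime 13) := ⟨by norm_num⟩
  refine witZ_pair (L := []) (by norm_num) (by norm_num) (by norm_num) (by rw [card_eq]; norm_num) (by rw [card_eq]; norm_num)
    (by rw [card_eq]; norm_num) (by rw [card_eq]; norm_num)
    (fun P h => root_cond (by decide) (by norm_num) h) (fun P h => root_cond (by decide) (by norm_num) h) not_143 hf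
    (by simp) ?_
  rw [card_eq]
  exact H823.B0R.Fi23_11_13

/-- **`Fi23`, `p = 7, 11, 13, 17`** (`FrobAll`: the Frobenius lemma) -/
theorem witZ (hf : FrobAll Fi23) {p : ℕ} (hp : p = 7 ∨ p = 11 ∨ p = 13 ∨ p = 17) {S : Type u} [Group S]
    (h : Spor.IsoFi23 S) : WitZ p S := by
  obtain ⟨e⟩ := h
  have := finite
  have : Finite S := Finite.of_equiv _ e.symm.toEquiv
  rcases hp with rfl | rfl | rfl | rfl
  · exact (wit_7_17 hf).1.congr e
  · exact (wit_11_13 hf).1.congr e
  · exact (wit_11_13 hf).2.congr e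
  · exact (wit_7_17 hf).2.congr e

end Cfsg.Agent.H702.BR.FiTT
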