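import Cfsg.Agent.H702.BR.HSThree
import Cfsg.Agent.H702.BR.FiTT
import Cfsg.Agent.H839.Seven
import Cfsg.Agent.H839.Thirteen
import Cfsg.Agent.H30.BR.FiveFi

/-!
# B0-RAT: `Fi23`, `p = 5` (helper702)

The engine with one exact prime, `q = 11`: `|C(11)| = 44`, `|N(11)| = 440`; the elements of order 5 are rational
(helper30); `|C(7)| = 840`, `|C(13)| = 78`, hence no elements of order 63, 91, 117.
-/

set_option autoImplicit false
set_option maxRecDepth 100000

open Subgroup

namespace Cfsg.Agent.H702.BR.FiFive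

open Cfsg Cfsg.Agent.H145.BR Cfsg.Agent.H493.RatB Cfsg.Agent.H852.RatB Cfsg.Agent.H839 Cfsg.Agent.H839.Fi23
open Cfsg.Agent.H702.BR.FiTT Cfsg.Agent.Lib.PermNet Cfsg.Agent.Fischer.Fi23Hom Cfsg.Agent.LThreeFi23
open Cfsg.Agent.H838.Fi23 (SL L5)
open Cfsg.Spor (Fi23)

universe u

theorem card_cent_map {X Y : Subgroup Fi23} (h : ∃ g : Fi23, X.map (MulAut.conj g).toMonoidHom = Y) :
    Nat.card (centralizer (Y : Set Fi23)) = Nat.card (centralizer (X : Set Fi23)) := by
  obtain ⟨g, rfl⟩ := h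
  have h1 : (centralizer (X : Set Fi23)).map (MulAut.conj g).toMonoidHom =
      centralizer ((X.map (MulAut.conj g).toMonoidHom : Subgroup Fi23) : Set Fi23) :=
    Cfsg.Agent.H838.Transport.map_centralizer (MulAut.conj g) (X : Set Fi23)
  rw [← h1]
  exact (Nat.card_congr ((MulAut.conj g).subgroupMap _).toEquiv).symm

theorem card_C7 (X : Subgroup Fi23) (hX : Nat.card X = 7) : Nat.card (centralizer (X : Set Fi23)) = 840 := by
  have h1 : Nat.card (zpowers (elw y7)) = 7 := by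
    have : Fact (Nat.Prime 7) := ⟨by norm_num⟩
    rw [Nat.card_zpowers, orderOf_eq_prime pow7 y7_ne]
  rw [card_cent_map (conj_all7 _ X h1 hX)]
  have h2 := FrobGen.card_cent (by norm_num : Nat.Prime 7) pow7 y7_ne (fun x hx => (S5_comm_y7 hx).symm)
    (fun w hw => cent7 hw) y7_pow_S5
  obtain ⟨f, -, hf, hinj⟩ := exists_S5
  have h3 : Nat.card (SL L5) = 120 := by
    rw [← hf, ← Nat.card_congr (MonoidHom.ofInjective hinj).toEquiv, Nat.card_perm, Nat.card_eq_fintype_card,
      Fintype.card_fin]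
    rfl
  rw [h2, h3]

theorem card_C13 (X : Subgroup Fi23) (hX : Nat.card X = 13) : Nat.card (centralizer (X : Set Fi23)) = 78 := by
  rw [card_cent_map (conj_all13 _ X card_y13 hX)]
  have h2 := FrobGen.card_cent (by norm_num : Nat.Prime 13) pow13 y13_ne (fun x hx => (S3_comm_y13 hx).symm)
    (fun w hw => cent13 hw) y13_pow_S3
  rw [h2, card_S3]

theorem card_C11' : Nat.card (centralizer (X11 : Set Fi23)) = 44 := by
  by_cases h : ∃ w ∈ centralizer (X11 : Set Fi23), rho w 0 = 18119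
  · exfalso
    obtain ⟨w, hw, hw0⟩ := h
    have h1 := index_two_pts (A := centralizer (X11 : Set Fi23))
      (fun w hw p hp => norm_fix (centralizer_le_normalizer _ hw) hp) hw hw0
    have h88 : Nat.card (centralizer (X11 : Set Fi23)) = 88 := by
      rw [Count.card_of_index_two inf_le_left h1, card_C0]
    obtain ⟨C, hC⟩ : ∃ C, C = (centralizer (X11 : Set Fi23)).subgroupOf (normalizer (X11 : Set Fi23)) := ⟨_, rfl⟩
    have hCn : C.Normal := by
      rw [hC]
      infer_instance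
    have hcC : Nat.card C = 88 := by
      rw [hC, ← h88]
      exact Nat.card_congr (subgroupOfEquivOfLe (centralizer_le_normalizer _)).toEquiv
    have hmul := C.card_mul_index
    rw [hcC, card_N11] at hmul
    have hi : C.index = 5 := by omega
    have h2 := C.pow_index_mem (⟨elw t11, t11_mem⟩ : normalizer (X11 : Set Fi23))
    rw [hi, hC, mem_subgroupOf] at h2
    have h3 : elw t11 ^ 5 * elw y11 = elw y11 * elw t11 ^ 5 := mem_cent_zpowers.1 h2
    have h4 : elw t11 ^ 5 * elw y11 * (elw t11 ^ 5)⁻¹ = (elw y11)⁻¹ := by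
      have a1 : ∀ g : Fi23, elw t11 * g * (elw t11)⁻¹ = MulAut.conj (elw t11) g := fun g => rfl
      have a2 := t11_conj
      rw [a1] at a2
      have a3 : elw t11 ^ 5 * elw y11 * (elw t11 ^ 5)⁻¹ = (MulAut.conj (elw t11) ^ 5) (elw y11) := by
        rw [← map_pow]
        rfl
      rw [a3]
      show MulAut.conj (elw t11) (MulAut.conj (elw t11) (MulAut.conj (elw t11) (MulAut.conj (elw t11)
        (MulAut.conj (elw t11) (elw y11))))) = _
      simp only [a2, map_inv, inv_inv]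
    rw [h3, mul_inv_cancel_right] at h4
    have h5 : elw y11 ^ 2 = 1 := by
      rw [pow_two]
      nth_rewrite 1 [h4]
      exact inv_mul_cancel _
    have h6 : elw y11 ^ 11 = 1 := pow11
    apply y11_ne
    calc elw y11 = elw y11 ^ 11 * (elw y11 ^ 2)⁻¹ ^ 5 := by group
      _ = 1 := by rw [h6, h5]; simp
  · have h2 : centralizer (X11 : Set Fi23) ⊓ centralizer ({el .z} : Set Fi23) = centralizer (X11 : Set Fi23) := by
      rw [inf_eq_left]
      intro w hw
      rw [mem_cz]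
      rcases norm_fix (centralizer_le_normalizer _ hw) (Or.inl rfl) with h1 | h1
      · exact h1
      · exact absurd ⟨w, hw, h1⟩ h
    rw [← h2]
    exact card_C0

theorem card_C11 (X : Subgroup Fi23) (hX : Nat.card X = 11) : Nat.card (centralizer (X : Set Fi23)) = 44 := by
  rw [card_cent_map (conj_all11 _ X card_X11 hX), card_C11']

theorem not_dvd_of_cent {G : Type*} [Group G] {q m c : ℕ}
    (h : ∀ X : Subgroup G, Nat.card X = q → Nat.card (centralizer (X : Set G)) = c) (hm : ¬ m ∣ c) {g : G}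
    (hg0 : 0 < orderOf g) (hq' : q ∣ orderOf g) (hmg : m ∣ orderOf g) : False := by
  have h1 : orderOf (g ^ (orderOf g / q)) = q := orderOf_pow_orderOf_div hg0.ne' hq'
  have h2 : g ∈ centralizer ((zpowers (g ^ (orderOf g / q)) : Subgroup G) : Set G) := by
    rw [mem_centralizer_iff]
    rintro x ⟨k, rfl⟩
    exact (((Commute.refl g).pow_left _).zpow_left k).eq
  have h3 := Subgroup.orderOf_dvd_natCard _ h2
  rw [h _ (by rw [Nat.card_zpowers, h1])] at h3
  exact hm (hmg.trans h3)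

/-- the orders of the elements satisfy the condition of the engine -/
theorem gen_eleven (g : Fi23) : Gen1 (orderOf g) 11 [] := by
  have := finite
  have h0 := orderOf_pos g
  have h1 : orderOf g ∣ 2 ^ 18 * 3 ^ 13 * 5 ^ 2 * 7 * 11 * 13 * 17 * 23 := by
    rw [← card_eq]
    exact orderOf_dvd_natCard g
  have n97 : 7 ∣ orderOf g → ¬ 3 ^ 2 ∣ orderOf g := fun h7 h9 =>
    not_dvd_of_cent (m := 3 ^ 2) card_C7 (by norm_num) h0 h7 h9
  have n137 : 7 ∣ orderOf g → ¬ 13 ∣ orderOf g := fun h7 h9 =>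
    not_dvd_of_cent (m := 13) card_C7 (by norm_num) h0 h7 h9
  have n913 : 13 ∣ orderOf g → ¬ 3 ^ 2 ∣ orderOf g := fun h7 h9 =>
    not_dvd_of_cent (m := 3 ^ 2) card_C13 (by norm_num) h0 h7 h9
  generalize orderOf g = o at *
  have h2 : ¬ 3 ^ 2 ∣ o → o ∣ 2 ^ 18 * 3 * 5 ^ 2 * 7 * 11 * 13 * 17 * 23 := fun h =>
    dvd_of_not_sq (a := 2 ^ 18 * 5 ^ 2 * 7 * 11 * 13 * 17 * 23) (k := 13) (by norm_num : Nat.Prime 3)
      (by convert h1 using 1; norm_num) h (by norm_num)
  by_cases h7 : 7 ∣ o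
  · refine gen1_of_check (n := 2 ^ 18 * 3 * 5 ^ 2 * 7 * 11 * 17 * 23) (PS := [2, 3, 5, 7, 11, 17, 23])
      (C := [(3, [(7, 1, 0)]), (5, [(5, 1, 0)]), (11, [(23, 1, 0)])]) (by norm_num) (by norm_num) (by norm_num) ?_
      (by decide +kernel)
    exact dvd_of_not_prime (a := 2 ^ 18 * 3 * 5 ^ 2 * 7 * 11 * 17 * 23) (k := 1) (by norm_num : Nat.Prime 13)
      (by convert h2 (n97 h7) using 1; norm_num) (n137 h7) dvd_rfl
  by_cases h13 : 13 ∣ o
  · refine gen1_of_check (n := 2 ^ 18 * 3 * 5 ^ 2 * 11 * 13 * 17 * 23) (PS := [2, 3, 5, 11, 13, 17, 23])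
      (C := [(3, [(13, 1, 0)]), (5, [(5, 1, 0)]), (11, [(23, 1, 0)])]) (by norm_num) (by norm_num) (by norm_num) ?_
      (by decide +kernel)
    exact dvd_of_not_prime (a := 2 ^ 18 * 3 * 5 ^ 2 * 11 * 13 * 17 * 23) (k := 1) (by norm_num : Nat.Prime 7)
      (by convert h2 (n913 h13) using 1; norm_num) h7 dvd_rfl
  · refine gen1_of_check (n := 2 ^ 18 * 3 ^ 13 * 5 ^ 2 * 11 * 17 * 23) (PS := [2, 3, 5, 11, 17, 23])
      (C := [(3, [(3, 1, 0)]), (5, [(5, 1, 0)]), (11, [(23, 1, 0)])]) (by norm_num) (by norm_num) (by norm_num) ?_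
      (by decide +kernel)
    refine dvd_of_not_prime (a := 2 ^ 18 * 3 ^ 13 * 5 ^ 2 * 11 * 17 * 23) (k := 1) (by norm_num : Nat.Prime 7)
      ?_ h7 dvd_rfl
    exact dvd_of_not_prime (a := 2 ^ 18 * 3 ^ 13 * 5 ^ 2 * 7 * 11 * 17 * 23) (k := 1) (by norm_num : Nat.Prime 13)
      (by convert h1 using 1; norm_num) h13 (by norm_num)

theorem card_C11_elt {y : Fi23} (hy : orderOf y = 11) : Nat.card (centralizer ({y} : Set Fi23)) = 44 := by
  rw [← card_C11 (zpowers y) (by rw [Nat.card_zpowers, hy])]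
  congr 2
  ext z
  rw [mem_cent_zpowers, mem_centralizer_singleton_iff]

/-- `|N(11) : C(11)| = 10` -/
theorem index_eleven [Fact (Nat.Prime 11)] (Q : Sylow 11 Fi23) :
    (centralizer (Q : Set Fi23)).relIndex (normalizer (Q : Set Fi23)) = 11 - 1 := by
  have := finite
  refine index_of_cent (c := 44) (by rw [card_eq]; norm_num) (by rw [card_eq]; norm_num) (fun y => card_C11_elt)
    (fun e he m hm h1 => ?_) Q
  rw [card_eq] at hm
  have h5 : e ≤ 10 := Nat.le_of_dvd (by norm_num) he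
  norm_num at hm
  interval_cases e <;> omega

/-- **(Fi23; 5)** -/
theorem rowQ_fi23 (hF : FrobAll Fi23) : RowQ 5 Fi23 := by
  have := finite
  have : Fact (Nat.Prime 5) := ⟨by norm_num⟩
  have : Fact (Nat.Prime 11) := ⟨by norm_num⟩
  obtain ⟨x, hx⟩ := exists_prime_orderOf_dvd_card' (G := Fi23) 5 (by rw [card_eq]; norm_num)
  have h5 : 5 ∣ Nat.card Fi23 := by rw [card_eq]; norm_num
  refine rowQ_of_one (q := 11) (x := x) (k := 1) (L := []) (by norm_num) (by rw [card_eq]; norm_num)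
    (by rw [card_eq]; norm_num) index_eleven hF (by rw [hx]; norm_num) (fun b hb hc => ?_) (fun k hk => ?_)
    (by simp) gen_eleven
  · have h1 : x ∈ centralizer ({b} : Set Fi23) := mem_centralizer_singleton_iff.2 hc.eq
    have h2 := Subgroup.orderOf_dvd_natCard _ h1
    rw [card_C11_elt hb, hx] at h2
    norm_num at h2
  · have hk5 : ¬ 5 ∣ k := fun h => by
      have h1 := Nat.dvd_gcd h h5
      rw [hk] at h1
      norm_num at h1
    obtain ⟨g, h1, -⟩ := H30.BR.move_fi23.2 x 1 hx (by simp) (by simp) k hk5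
    exact (isConj_iff.2 ⟨g, h1⟩).symm

/-- **(Fi23; 5)** (`FrobAll`: the Frobenius lemma) -/
theorem rowQ (hF : FrobAll Fi23) {S : Type u} [Group S] (h : Spor.IsoFi23 S) : RowQ 5 S := by
  obtain ⟨e⟩ := h
  have := finite
  have : Finite S := Finite.of_equiv _ e.symm.toEquiv
  exact RowQ.congr e (rowQ_fi23 hF)

end Cfsg.Agent.H702.BR.FiFive
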