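import Cfsg.Agent.H823.B0R.Arith
import Cfsg.Agent.H852.RatB.One
import Cfsg.Agent.H713.B0R.Tool

/-!
# The arithmetic of the engine with one exact prime (helper702)

`check1`, `gen_of_check1` : the certificate of helper823 with `p = q`; `gen1_of_gen` : divisors `o` of `n`.
-/

set_option autoImplicit false

namespace Cfsg.Agent.H702.BR

open Cfsg.Agent.H823.B0R Cfsg.Agent.H852.RatB

/-- The certificate checker for one prime. -/
def check1 (n q : ℕ) (PS L : List ℕ) (C : List (ℕ × List (ℕ × ℕ × ℕ))) : Bool :=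
  Nat.ble 1 n && PS.all np && (PS.prod ^ 64 % n == 0) && PS.all (fun s => Nat.ble s 71) &&
    np q && (n % q == 0) && !(n % (q * q) == 0) &&
    (List.range 72).all fun r =>
      (Nat.ble r 2 || (todo n PS L q q r).isEmpty || !(np r) ||
        run q q r (todo n PS L q q r) ((C.lookup r).getD []))

section Sound

variable {n : ℕ}

/-- **Soundness of the certificate**, one prime. -/
theorem gen_of_check1 {n q : ℕ} {PS L : List ℕ} {C : List (ℕ × List (ℕ × ℕ × ℕ))}
    (h : check1 n q PS L C = true) : H823.B0R.Gen n q q L := by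
  classical
  simp only [check1, Bool.and_eq_true, Nat.ble_eq, List.all_eq_true, beq_iff_eq, Bool.not_eq_true',
    beq_eq_false_iff_ne, ne_eq, List.mem_range, Bool.or_eq_true] at h
  obtain ⟨⟨⟨⟨⟨⟨⟨k1, k2⟩, k3⟩, k4⟩, k5⟩, k8⟩, k9⟩, k12⟩ := h
  have hn : n ≠ 0 := by omega
  have hp : q.Prime := (np_iff q).1 k5
  have hps : ∀ s : ℕ, s.Prime → s ∣ n → s ∈ PS := by
    intro s hs hsn
    have h1 : s ∣ PS.prod := hs.dvd_of_dvd_pow (hsn.trans (Nat.dvd_of_mod_eq_zero k3))
    obtain ⟨t, ht, hst⟩ := (Nat.Prime.prime hs).dvd_prod_iff.1 h1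
    rwa [(Nat.prime_dvd_prime_iff_eq hs ((np_iff t).1 (k2 t ht))).1 hst]
  intro H hp1 hpF hq1 hqF hT
  have hne : NeZero n := ⟨hn⟩
  apply two_power_of_odd H
  intro r hr hr2
  set B : Subgroup (∀ s : n.primeFactors, Co n s) := (H ⊔ (powMonoidHom r).range).map (Phi n) with hBdef
  have hBH : ∀ u ∈ H, Phi n u ∈ B := fun u hu =>
    Subgroup.mem_map_of_mem _ (Subgroup.mem_sup_left hu)
  have hpow : ∀ g, g ^ r ∈ B := by
    intro g
    obtain ⟨u, rfl⟩ := (Phi_bijective hn).2 g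
    rw [← map_pow]
    exact Subgroup.mem_map_of_mem _ (Subgroup.mem_sup_right ⟨u, rfl⟩)
  suffices hB : ∀ s : n.primeFactors, ∀ x : Co n s, Pi.mulSingle s x ∈ B by
    intro u
    have h1 : Phi n u ∈ B :=
      mem_of_treated B Set.univ (fun s _ => hB s) _ (fun i hi => absurd (Set.mem_univ i) hi)
    obtain ⟨v, hv, e⟩ := h1
    have e1 := (Phi_bijective hn).1 e
    rw [← e1]
    obtain ⟨y, hy, z, hz, e⟩ := Subgroup.mem_sup.1 hv
    obtain ⟨w, rfl⟩ := hz
    exact ⟨y, hy, w, e.symm⟩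
  -- local units at a prime which divides `n` exactly once
  have hloc : ∀ (t : ℕ) (ht : t.Prime), n % t = 0 → n % (t * t) ≠ 0 →
      ∀ (s : n.primeFactors), (s : ℕ) ∣ n / t → (s : ℕ) ≠ t := by
    intro t ht h1 h2 s h3 h4
    apply h2
    rw [h4] at h3
    exact Nat.mod_eq_zero_of_dvd ((Nat.dvd_div_iff_mul_dvd (Nat.dvd_of_mod_eq_zero h1)).1 h3)
  have hsingle : ∀ (t : ℕ) (ht : t.Prime), n % t = 0 → n % (t * t) ≠ 0 →
      (∀ u : (ZMod n)ˣ, (u : ZMod n).val ≡ 1 [MOD n / t] → u ∈ H) →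
      ∀ s : n.primeFactors, (s : ℕ) = t → ∀ x : Co n s, Pi.mulSingle s x ∈ B := by
    intro t ht h1 h2 h3 s hs x
    obtain ⟨u, hu⟩ := (Phi_bijective hn).2 (Pi.mulSingle s x)
    rw [← hu]
    refine hBH u (h3 u (val_modEq hn u 1 (n / t) (Nat.div_dvd_of_dvd (Nat.dvd_of_mod_eq_zero h1)) ?_))
    intro s' hs'
    have h4 : s' ≠ s := fun e => hloc t ht h1 h2 s' hs' (by rw [e, hs])
    rw [hu, Pi.mulSingle_eq_of_ne h4]
    simp
  have hfrob : ∀ (t : ℕ) (ht : t.Prime), n % t = 0 → n % (t * t) ≠ 0 →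
      (∀ u : (ZMod n)ˣ, (u : ZMod n).val ≡ t [MOD n / t] → u ∈ H) →
      ∃ u : (ZMod n)ˣ, Phi n u ∈ B ∧ ∀ s : n.primeFactors, ((s : ℕ) ≠ t →
        ((Phi n u s : Co n s) : ZMod ((s : ℕ) ^ n.factorization s)) = ((t : ℕ) : ZMod _)) := by
    intro t ht h1 h2 h3
    obtain ⟨u, hu⟩ := exists_frob hn ht
    refine ⟨u, hBH u (h3 u (val_modEq hn u t (n / t)
      (Nat.div_dvd_of_dvd (Nat.dvd_of_mod_eq_zero h1)) ?_)), hu⟩
    intro s' hs'
    exact hu s' (hloc t ht h1 h2 s' hs')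
  -- the primes of `L`
  have hL : ∀ s : n.primeFactors, (s : ℕ) ∈ L → ∀ x : Co n s, Pi.mulSingle s x ∈ B := by
    intro s hs x
    have hsp : (s : ℕ).Prime := Nat.prime_of_mem_primeFactors s.2
    have hns : NeZero ((s : ℕ) ^ n.factorization s) := ⟨pow_ne_zero _ hsp.ne_zero⟩
    have hcard : Nat.card (Co n s) ≠ 0 := Nat.card_pos.ne'
    obtain ⟨k, m, hm, hkm⟩ := Nat.exists_eq_two_pow_mul_odd hcard
    obtain ⟨u, hu⟩ := (Phi_bijective hn).2 (Pi.mulSingle s (x ^ (2 ^ k)))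
    have hu1 : u ∈ H := by
      refine hT s hs u (val_modEq hn u 1 _ (Nat.ordCompl_dvd n s) ?_) ?_
      · intro s' hs'
        have h4 : s' ≠ s := by
          rintro rfl
          exact Nat.not_dvd_ordCompl hsp hn hs'
        rw [hu, Pi.mulSingle_eq_of_ne h4]
        simp
      · have h5 : u ^ m = 1 := by
          apply (Phi_bijective hn).1
          rw [map_pow, hu, map_one, ← Pi.mulSingle_pow, ← pow_mul, ← hkm, pow_card_eq_one',
            Pi.mulSingle_one]
        exact hm.of_dvd_nat (orderOf_dvd_of_pow_eq_one h5)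
    refine mem_of_coprime B _ (a := 2 ^ k) (b := r) ?_ ?_ (hpow _)
    · exact Nat.Coprime.pow_left _ ((Nat.coprime_primes Nat.prime_two hr).2 (Ne.symm hr2))
    · rw [← Pi.mulSingle_pow, ← hu]
      exact hBH u hu1
  -- inactive primes
  have hina : ∀ s : n.primeFactors, ¬ act r s (n.factorization s) →
      ∀ x : Co n s, Pi.mulSingle s x ∈ B := by
    intro s hs x
    have hsp : (s : ℕ).Prime := Nat.prime_of_mem_primeFactors s.2
    obtain ⟨y, rfl⟩ := pow_of_not_act hsp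
      (hsp.factorization_pos_of_dvd hn (Nat.dvd_of_mem_primeFactors s.2)) hr hs x
    rw [Pi.mulSingle_pow]
    exact hpow _
  obtain ⟨up, hup, hup1⟩ := hfrob q hp k8 k9 hpF
  have hact : ∀ s : n.primeFactors,
      (if (s : ℕ) = r then n % ((s : ℕ) * s) == 0 else ((s : ℕ) - 1) % r == 0) = true →
      act r s (n.factorization s) := by
    intro s hs
    by_cases h1 : (s : ℕ) = r
    · left
      refine ⟨h1, ?_⟩
      rw [if_pos h1, beq_iff_eq] at hs
      have h2 := Nat.dvd_of_mod_eq_zero hs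
      rw [← pow_two] at h2
      exact ((Nat.prime_of_mem_primeFactors s.2).pow_dvd_iff_le_factorization hn).1 h2
    · right
      rw [if_neg h1, beq_iff_eq] at hs
      exact ⟨h1, Nat.dvd_of_mod_eq_zero hs⟩
  have hact2 : ∀ s : n.primeFactors, act r s (n.factorization s) →
      (if (s : ℕ) = r then n % ((s : ℕ) * s) == 0 else ((s : ℕ) - 1) % r == 0) = true := by
    rintro s (⟨h1, h2⟩ | ⟨h1, h2⟩)
    · rw [if_pos h1, beq_iff_eq, ← pow_two]
      exact Nat.mod_eq_zero_of_dvd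
        (((Nat.prime_of_mem_primeFactors s.2).pow_dvd_iff_le_factorization hn).2 h2)
    · rw [if_neg h1, beq_iff_eq]
      exact Nat.mod_eq_zero_of_dvd h2
  -- all primes outside the list `todo` are treated
  have htd : ∀ s : n.primeFactors, (s : ℕ) ∉ todo n PS L q q r →
      ∀ x : Co n s, Pi.mulSingle s x ∈ B := by
    intro s hs
    have hsp : (s : ℕ).Prime := Nat.prime_of_mem_primeFactors s.2
    by_cases c1 : (s : ℕ) = q
    · exact hsingle q hp k8 k9 hp1 s c1
    by_cases c3 : (s : ℕ) ∈ L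
    · exact hL s c3
    by_cases c4 : act r s (n.factorization s)
    · exfalso
      apply hs
      rw [todo, List.mem_filter]
      refine ⟨hps s hsp (Nat.dvd_of_mem_primeFactors s.2), ?_⟩
      have c5 : (s : ℕ) ≠ 2 := by
        intro e
        rcases c4 with ⟨h1, h2⟩ | ⟨h1, h2⟩
        · exact hr2 (by rw [← h1, e])
        · rw [e] at h2
          exact hr.one_lt.ne' (Nat.dvd_one.1 h2)
      have c6 := hact2 s c4
      simp [c1, c3, c5, c6]
    · exact hina s c4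
  have htd2 : ∀ s : n.primeFactors, (s : ℕ) ∈ todo n PS L q q r →
      (s : ℕ) ≠ 2 ∧ (s : ℕ) ≠ q ∧ (s : ℕ) ≠ q ∧ act r s (n.factorization s) := by
    intro s hs
    rw [todo, List.mem_filter] at hs
    obtain ⟨_, h2⟩ := hs
    rw [Bool.and_eq_true, Bool.and_eq_true, Bool.and_eq_true, Bool.and_eq_true] at h2
    obtain ⟨⟨⟨⟨h3, h4⟩, h5⟩, h6⟩, h7⟩ := h2
    exact ⟨by simpa using h3, by simpa using h5, by simpa using h6, hact s h7⟩
  by_cases hr72 : r < 72
  · rcases k12 r hr72 with ((h1 | h1) | h1) | h1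
    · exact absurd h1 (by have := hr.two_le; omega)
    · rw [List.isEmpty_iff] at h1
      intro s x
      exact htd s (by rw [h1]; exact List.not_mem_nil) x
    · exact absurd ((np_iff r).2 hr) (by rw [h1]; decide)
    · exact run_sound hn hr hr2 B hpow up up hup hup hup1 hup1 _ _ h1 htd htd2
  · intro s x
    refine htd s (fun hs => ?_) x
    have h1 := (List.mem_filter.1 hs).1
    have h2 := k4 _ h1
    have hsp : (s : ℕ).Prime := Nat.prime_of_mem_primeFactors s.2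
    rcases (htd2 s hs).2.2.2 with ⟨h3, _⟩ | ⟨_, h3⟩
    · omega
    · have h4 := Nat.le_of_dvd (by have := hsp.two_le; omega) h3
      omega

end Sound

/-- from the modulus `n` to its divisors -/
theorem gen1_of_gen {n q o : ℕ} {L : List ℕ} (hq : q.Prime) (hqn : q ∣ n) (hqn2 : ¬ q ^ 2 ∣ n) (ho : o ∣ n)
    (h : H823.B0R.Gen n q q L) : Gen1 o q L := by
  have hn : n ≠ 0 := fun h => hqn2 (h ▸ dvd_zero _)
  have ho0 : o ≠ 0 := fun h => hn (by rw [h] at ho; exact zero_dvd_iff.1 ho)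
  have : NeZero n := ⟨hn⟩
  have : NeZero o := ⟨ho0⟩
  intro H h1 h2 h3 u
  obtain ⟨v, rfl⟩ := ZMod.unitsMap_surjective ho u
  have key : ∀ {a : ℕ} {w : (ZMod n)ˣ}, (w : ZMod n).val ≡ a [MOD n / q] →
      (ZMod.unitsMap ho w : ZMod o).val ≡ a [MOD o / q ^ o.factorization q] := by
    intro a w hw
    exact ((H713.B0R.unitsMap_val hn ho w).of_dvd (Nat.div_dvd_of_dvd (Nat.ordProj_dvd o q))).trans
      (hw.of_dvd (H713.B0R.div_dvd_div hq hqn hqn2 ho))
  obtain ⟨c, hc⟩ := h (H.comap (ZMod.unitsMap ho)) (fun w hw => h1 _ (key hw)) (fun w hw => h2 _ (key hw))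
    (fun w hw => h1 _ (key hw)) (fun w hw => h2 _ (key hw)) (fun r hr w hw hwo => h3 r hr _
      (((H713.B0R.unitsMap_val hn ho w).of_dvd (Nat.div_dvd_of_dvd (Nat.ordProj_dvd o r))).trans
        (hw.of_dvd (Nat.ordCompl_dvd_ordCompl_of_dvd ho r))) (hwo.of_dvd_nat (orderOf_map_dvd _ w))) v
  refine ⟨c, ?_⟩
  rw [← map_pow]
  exact hc

/-- the certificate for the divisors of `n` -/
theorem gen1_of_check {n q o : ℕ} {PS L : List ℕ} {C : List (ℕ × List (ℕ × ℕ × ℕ))} (hq : q.Prime) (hqn : q ∣ n)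
    (hqn2 : ¬ q ^ 2 ∣ n) (ho : o ∣ n) (h : check1 n q PS L C = true) : Gen1 o q L :=
  gen1_of_gen hq hqn hqn2 ho (gen_of_check1 h)

end Cfsg.Agent.H702.BR
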