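import Cfsg.Agent.H702.BR.GenOne
import Cfsg.Agent.H474.RealCo.Three
import Cfsg.Agent.H845.HNSevenA
import Cfsg.Agent.H525.RO.CoTf

/-!
# B0-RAT: `HS`, `p = 3` (helper702)

The engine with one exact prime, `q = 7`: `C(7) = 7`, `|N(7)| = 42` (Sylow), real elements of order 3, no elements
of order 25.
-/

set_option autoImplicit false

open Subgroup

namespace Cfsg.Agent.H702.BR

open Cfsg Cfsg.Agent.H145.BR Cfsg.Agent.H493.RatB Cfsg.Agent.H852.RatB Cfsg.Agent.Characters.Core

universe u v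

theorem RowQ.congr {p : ℕ} {S : Type u} [Group S] [Finite S] {T : Type v} [Group T] (e : S ≃* T) (h : RowQ p T) :
    RowQ p S := by
  intro M hM
  obtain ⟨θ, h1, h2, h4⟩ := h M hM
  exact ⟨⟨_, isIrr_comp (e : S →* T) e.surjective θ.2⟩, mem_principalBlock_comp e h1, fun h5 => h2 (by
    funext y
    obtain ⟨x, rfl⟩ := e.surjective y
    exact congrFun h5 x), fun g => h4 (e g)⟩

/-- a real element of order 3 is rational -/
theorem ratEl_three {G : Type*} [Group G] [Finite G] {x : G} (hx : orderOf x = 3) (h : IsConj x x⁻¹) : RatEl x := by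
  intro k hk
  have h3 : Nat.Coprime k 3 := hk.coprime_dvd_right (by rw [← hx]; exact orderOf_dvd_natCard x)
  have h4 : k % 3 = 1 ∨ k % 3 = 2 := by
    have h5 : k % 3 ≠ 0 := fun h6 => by
      have h7 := Nat.dvd_gcd (Nat.dvd_of_mod_eq_zero h6) (dvd_refl 3)
      rw [h3] at h7
      norm_num at h7
    omega
  rw [← pow_mod_orderOf, hx]
  rcases h4 with h4 | h4 <;> rw [h4]
  · rw [pow_one]
  · have h5 : x ^ 2 = x⁻¹ := by
      have h6 : x ^ 3 = 1 := by rw [← hx, pow_orderOf_eq_one]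
      rw [eq_inv_iff_mul_eq_one, ← pow_succ]
      exact h6
    rw [h5]
    exact h.symm

theorem dvd_of_not_sq {o a b k p : ℕ} (hp : p.Prime) (h : o ∣ a * p ^ k) (h2 : ¬ p ^ 2 ∣ o) (hb : a * p ∣ b) :
    o ∣ b := by
  obtain ⟨c, d, hc, hd, rfl⟩ := exists_dvd_and_dvd_of_dvd_mul h
  obtain ⟨j, hj, rfl⟩ := (Nat.dvd_prime_pow hp).1 hd
  have h4 : j ≤ 1 := by
    by_contra h
    exact h2 (Dvd.dvd.mul_left (pow_dvd_pow p (by omega)) c)
  have h5 : p ^ j ∣ p := by simpa using pow_dvd_pow p h4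
  exact (mul_dvd_mul hc h5).trans hb

theorem dvd_of_not_prime {o a b k p : ℕ} (hp : p.Prime) (h : o ∣ a * p ^ k) (h2 : ¬ p ∣ o) (hb : a ∣ b) :
    o ∣ b := by
  obtain ⟨c, d, hc, hd, rfl⟩ := exists_dvd_and_dvd_of_dvd_mul h
  obtain ⟨j, hj, rfl⟩ := (Nat.dvd_prime_pow hp).1 hd
  have h4 : j = 0 := by
    by_contra h
    exact h2 (Dvd.dvd.mul_left (dvd_pow_self p h) c)
  rw [h4, pow_zero, mul_one]
  exact hc.trans hb

/-- the inertial index from the order of the centralizer and Sylow's theorem -/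
theorem index_of_cent {G : Type u} [Group G] [Finite G] {q : ℕ} [hq : Fact q.Prime] {c : ℕ} (hdq : q ∣ Nat.card G)
    (hnq : ¬ q ^ 2 ∣ Nat.card G) (hC : ∀ y : G, orderOf y = q → Nat.card (centralizer ({y} : Set G)) = c)
    (hn : ∀ e, e ∣ q - 1 → ∀ m, m * (c * e) = Nat.card G → m % q = 1 → e = q - 1) (Q : Sylow q G) :
    (centralizer (Q : Set G)).relIndex (normalizer (Q : Set G)) = q - 1 := by
  have hc : Nat.card Q = q := card_sylow hdq hnq Q
  have hcyc : IsCyclic Q := isCyclic_of_prime_card hc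
  obtain ⟨y, hy⟩ := hcyc.exists_generator
  have hoy : orderOf (y : G) = q := by
    rw [Subgroup.orderOf_coe, orderOf_eq_card_of_forall_mem_zpowers hy, hc]
  have hcent : Nat.card (centralizer (Q : Set G)) = c := by
    have h0 : (centralizer (Q : Set G) : Subgroup G) = centralizer ({(y : G)} : Set G) := by
      ext z
      rw [mem_centralizer_iff, mem_centralizer_singleton_iff]
      constructor
      · intro h
        exact (h _ y.2).symm
      · intro h w hw
        obtain ⟨k, hk⟩ := hy ⟨w, hw⟩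
        have hk' : (y : G) ^ k = w := congrArg Subtype.val hk
        rw [← hk']
        exact ((show Commute (y : G) z from h.symm).zpow_left k).eq
    rw [h0, hC _ hoy]
  have h1 := SmallSimple.BurnsideNC.card_normalizer_eq (Q : Subgroup G)
  have h2 := SmallSimple.BurnsideNC.card_sylow_mul_card_normalizer Q
  have h3 := SmallSimple.BurnsideNC.relIndex_dvd_of_card_eq_prime Q hc
  have h4 : Nat.card (Sylow q G) % q = 1 := by
    have h5 : Nat.card (Sylow q G) % q = 1 % q := card_sylow_modEq_one q G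
    rwa [Nat.mod_eq_of_lt hq.out.one_lt] at h5
  have h1' : Nat.card (normalizer (Q : Set G)) =
      c * (centralizer (Q : Set G)).relIndex (normalizer (Q : Set G)) := h1.trans (congrArg (· * _) hcent)
  rw [h1'] at h2
  exact hn _ h3 _ h2 h4

namespace HSThree

variable {S : Type u} [Group S]

theorem card_eq : Nat.card Spor.HS = 44352000 := Cfsg.Agent.KFacts.HS.card ⟨MulEquiv.refl _⟩

theorem finite : Finite Spor.HS := Nat.finite_of_card_ne_zero (by rw [card_eq]; norm_num)

theorem not_25 (t : Spor.HS) : orderOf t ≠ 25 := by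
  intro h
  have hle : Spor.HS ≤ Co0 := inf_le_left.trans inf_le_left
  have h1 : orderOf t = orderOf (⟨t.1, hle t.2⟩ : Co0) := by
    rw [← Subgroup.orderOf_coe t, ← Subgroup.orderOf_coe]
  rw [h1] at h
  have h2 := Cfsg.Agent.H525.RO.CoTf.co0_pow (g := (⟨t.1, hle t.2⟩ : Co0)) (n := 2) (by
    rw [show 5 ^ 2 = 25 by norm_num, ← h, pow_orderOf_eq_one])
  have h3 := orderOf_dvd_of_pow_eq_one h2
  rw [h] at h3
  omega

theorem not_25_dvd (t : Spor.HS) : ¬ 25 ∣ orderOf t := by
  have := finite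
  intro h
  refine not_25 (t ^ (orderOf t / 25)) ?_
  exact orderOf_pow_orderOf_div (orderOf_pos t).ne' h

theorem cent_seven {y : Spor.HS} (hy : orderOf y = 7) : Nat.card (centralizer ({y} : Set Spor.HS)) = 7 :=
  H845.HNSevenA.hs_seven ⟨MulEquiv.refl _⟩ hy

/-- `|N(7) : C(7)| = 6` -/
theorem index_seven [Fact (Nat.Prime 7)] (Q : Sylow 7 Spor.HS) :
    (centralizer (Q : Set Spor.HS)).relIndex (normalizer (Q : Set Spor.HS)) = 7 - 1 := by
  have := finite
  refine index_of_cent (c := 7) (by rw [card_eq]; norm_num) (by rw [card_eq]; norm_num) (fun y => cent_seven)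
    (fun e he m hm h1 => ?_) Q
  rw [card_eq] at hm
  have h5 : e ≤ 6 := Nat.le_of_dvd (by norm_num) he
  interval_cases e <;> omega

/-- **(HS; 3)** -/
theorem rowQ_hs (hF : FrobAll Spor.HS) : RowQ 3 Spor.HS := by
  have := finite
  have : Fact (Nat.Prime 3) := ⟨by norm_num⟩
  have : Fact (Nat.Prime 7) := ⟨by norm_num⟩
  obtain ⟨x, hx, hr⟩ := H474.RealCo.hs_three.isConj
  refine rowQ_of_one (q := 7) (x := x) (k := 1) (L := []) (by norm_num) (by rw [card_eq]; norm_num)
    (by rw [card_eq]; norm_num) index_seven hF (by rw [hx]; norm_num) (fun b hb hc => ?_) (ratEl_three hx hr)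
    (by simp) (fun g => ?_)
  · have h1 : x ∈ centralizer ({b} : Set Spor.HS) := mem_centralizer_singleton_iff.2 hc.eq
    have h2 := Subgroup.orderOf_dvd_natCard _ h1
    rw [cent_seven hb, hx] at h2
    norm_num at h2
  · refine gen1_of_check (n := 2 ^ 9 * 3 ^ 2 * 5 * 7 * 11) (PS := [2, 3, 5, 7, 11])
      (C := [(3, [(3, 1, 0)]), (5, [(11, 1, 0)])]) (by norm_num) (by norm_num) (by norm_num) ?_ (by decide +kernel)
    have h1 : orderOf g ∣ 44352000 := by rw [← card_eq]; exact orderOf_dvd_natCard g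
    have h2 := not_25_dvd g
    exact dvd_of_not_sq (a := 2 ^ 9 * 3 ^ 2 * 7 * 11) (k := 3) (by norm_num : Nat.Prime 5) (by
      rw [show 2 ^ 9 * 3 ^ 2 * 7 * 11 * 5 ^ 3 = 44352000 by norm_num]
      exact h1) (by norm_num; exact h2) (by norm_num)

/-- **(HS; 3)** (`FrobAll`: the Frobenius lemma) -/
theorem rowQ (hF : FrobAll Spor.HS) {S : Type u} [Group S] (h : Spor.IsoHS S) : RowQ 3 S := by
  obtain ⟨e⟩ := h
  have := finite
  have : Finite S := Finite.of_equiv _ e.symm.toEquiv
  exact RowQ.congr e (rowQ_hs hF)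

end HSThree

end Cfsg.Agent.H702.BR
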